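import Cfsg.Agent.S5631
import Cfsg.Agent.S5637
import Cfsg.Agent.S5639
import Cfsg.Agent.S5642

/-!
Geometric maximal subgroups of special linear groups of small degree: the items whose proofs need no degree bound.
-/

set_option autoImplicit false
open Cfsg

namespace Cfsg.Agent.ClassicalMax.SmallLinear

section
open Cfsg.Agent.ClassicalMax Module
open Cfsg.Agent.S5631

theorem subspace {F : Type*} [Field F] [Fintype F] (n : ℕ) (W : Submodule F (Fin n → F)) (hW0 : W ≠ ⊥) (hW1 : W ≠ ⊤) : Cfsg.Geo.IsMaximalIn (Cfsg.Geo.specialLinear (Fin n) F) (Cfsg.Geo.subspaceStabilizer W ⊓ Cfsg.Geo.specialLinear (Fin n) F) := by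
  classical
  have hmem : ∀ g : (Fin n → F) ≃ₗ[F] (Fin n → F),
      (glEquiv (Fin n) F).symm g ∈ Cfsg.Geo.subspaceStabilizer W ↔ ∀ v, v ∈ W ↔ g v ∈ W := fun g => by
    show (∀ v, v ∈ (W : Set (Fin n → F)) ↔ (((glEquiv (Fin n) F).symm g : Matrix.GeneralLinearGroup (Fin n) F) : Matrix (Fin n) (Fin n) F).mulVec v ∈ (W : Set (Fin n → F))) ↔ _
    simp only [symm_mulVec, SetLike.mem_coe]
  refine isMaximalIn_specialLinear _ ?_ fun M hK hg => ?_
  · obtain ⟨w, hw, hw0⟩ := W.exists_mem_ne_zero_of_ne_bot hW0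
    obtain ⟨u, hu⟩ : ∃ u, u ∉ W := by
      by_contra! h; exact hW1 (eq_top_iff.2 fun v _ => h v)
    have hwu : w ∉ Submodule.span F {u} := fun h => by
      obtain ⟨c, rfl⟩ := Submodule.mem_span_singleton.1 h
      exact hu (by simpa [smul_smul, inv_mul_cancel₀ (fun hc : c = 0 => hw0 (by rw [hc, zero_smul]))] using W.smul_mem c⁻¹ hw)
    obtain ⟨φ, hφ, hφu⟩ := exists_dual_one _ hwu
    have h0 := hφu u (Submodule.mem_span_singleton_self u)
    refine ⟨φ, u, h0, fun hk => ?_⟩
    have := ((hmem _).1 hk w).1 hw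
    rw [tvec_apply h0, hφ, one_smul] at this
    exact hu ((W.add_mem_iff_right hw).1 this)
  · obtain ⟨g, hgK, hgM⟩ := hg
    obtain ⟨w0, hw0, hgw⟩ : ∃ w0 ∈ W, glEquiv (Fin n) F g w0 ∉ W := by
      by_contra! hc
      refine hgK ?_
      have hmap : W.map (glEquiv (Fin n) F g).toLinearMap = W :=
        Submodule.eq_of_le_of_finrank_eq (by rintro _ ⟨w, hw, rfl⟩; exact hc w hw)
          (LinearEquiv.finrank_map_eq _ W)
      rw [← (glEquiv (Fin n) F).symm_apply_apply g, hmem]
      refine fun v => ⟨hc v, fun h => ?_⟩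
      rw [← hmap] at h
      obtain ⟨w, hw, e⟩ := h
      exact (glEquiv (Fin n) F g).injective e ▸ hw
    refine all_transvections W M (fun φ v h0 hh => ?_) _ hgM hw0 hgw
    have := hK ((glEquiv (Fin n) F).symm (tvec φ v)) ⟨(hmem _).2 fun x => ?_, tvec_mem_specialLinear φ v⟩
    · rwa [MulEquiv.apply_symm_apply] at this
    rw [tvec_apply h0]
    rcases hh with hv | hW
    · exact (W.add_mem_iff_left (W.smul_mem _ hv)).symm
    · refine ⟨fun hx => by rwa [hW x hx, zero_smul, add_zero], fun hx => ?_⟩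
      have := hW _ hx
      rw [map_add, map_smul, h0, smul_zero, add_zero] at this
      rwa [this, zero_smul, add_zero] at hx

end

section
open Module Matrix Cfsg.Agent.ClassicalMax Cfsg.Agent.ClassicalMax.Tensor
open scoped Kronecker
open Cfsg.Agent.S5637

theorem tensor {F : Type*} [Field F] [Fintype F] (n : ℕ) (n₁ n₂ : ℕ) (h1 : 2 ≤ n₁) (h12 : n₁ < n₂) (hex : ¬ (n₁ = 2 ∧ Fintype.card F = 2)) (e : Fin n ≃ Fin n₁ × Fin n₂) (P : Matrix.GeneralLinearGroup (Fin n) F) : Cfsg.Geo.IsMaximalIn (Cfsg.Geo.specialLinear (Fin n) F) (Cfsg.Geo.tensorProductSubgroup n₁ n₂ e P ⊓ Cfsg.Geo.specialLinear (Fin n) F) := by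
  classical
  set Ψ := coords e P with hΨ
  let conj : ((Fin n → F) ≃ₗ[F] (Fin n → F)) →* (Matrix (Fin n₁) (Fin n₂) F ≃ₗ[F] Matrix (Fin n₁) (Fin n₂) F) :=
    { toFun := fun g => Ψ.trans (g.trans Ψ.symm)
      map_one' := LinearEquiv.ext fun x => Ψ.symm_apply_apply x
      map_mul' := fun g h => LinearEquiv.ext fun x => by
        simp [LinearEquiv.mul_apply] }
  have hlt : Fintype.card (Fin n₁) < Fintype.card (Fin n₂) := by rw [Fintype.card_fin, Fintype.card_fin]; exact h12
  have h2 : 2 ≤ Fintype.card (Fin n₁) := by rw [Fintype.card_fin]; exact h1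
  have hconj : ∀ (χ : Dual F (Matrix (Fin n₁) (Fin n₂) F)) (y : Matrix (Fin n₁) (Fin n₂) F), χ y = 0 →
      conj (tvec (χ ∘ₗ Ψ.symm.toLinearMap) (Ψ y)) = tvec χ y := fun χ y h => LinearEquiv.ext fun x => by
    show Ψ.symm (tvec (χ ∘ₗ Ψ.symm.toLinearMap) (Ψ y) (Ψ x)) = _
    rw [tvec_apply (by simpa using h), tvec_apply h]
    simp
  constructor
  · refine lt_of_le_of_ne inf_le_right fun heq => ?_
    obtain ⟨χ, y, h0, hN⟩ := exists_not_inN (F := F) h2 hlt
    refine hN ?_
    have hmem := (heq.ge (tvec_mem_specialLinear (χ ∘ₗ Ψ.symm.toLinearMap) (Ψ y))).1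
    have := (mem_iff e P _).1 hmem
    rw [MulEquiv.apply_symm_apply] at this
    rw [← hconj χ y h0]
    exact this
  intro M hM hMS
  by_cases hle : M ≤ Cfsg.Geo.tensorProductSubgroup n₁ n₂ e P
  · exact Or.inl (le_antisymm (le_inf hle hMS) hM)
  refine Or.inr (le_antisymm hMS (specialLinear_le M fun φ v hv => ?_))
  obtain ⟨g, hgM, hgK⟩ := SetLike.not_le_iff_exists.1 hle
  let X₀ : Subgroup (Matrix (Fin n₁) (Fin n₂) F ≃ₗ[F] Matrix (Fin n₁) (Fin n₂) F) :=
    (M.map (glEquiv (Fin n) F).toMonoidHom).map conj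
  have hX : Over X₀ :=
    { two := h2
      lt := hlt
      big := fun h => by
        rw [Nat.card_eq_fintype_card]
        rw [Fintype.card_fin] at h
        have := Fintype.one_lt_card (α := F)
        omega
      det := by
        rintro _ ⟨k, ⟨s, hsM, rfl⟩, rfl⟩
        show LinearMap.det ((Ψ.symm.toLinearMap ∘ₗ (glEquiv (Fin n) F s).toLinearMap) ∘ₗ Ψ.toLinearMap) = 1
        rw [← (mem_specialLinear_iff s).1 (hMS hsM), ← LinearMap.det_conj (glEquiv (Fin n) F s).toLinearMap Ψ.symm]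
        rfl
      le := fun h hN hdet => by
        let k : GL (Fin n) F := (glEquiv (Fin n) F).symm (Ψ.symm.trans (h.trans Ψ))
        have hkc : conj (glEquiv (Fin n) F k) = h := LinearEquiv.ext fun x => by
          show Ψ.symm (glEquiv (Fin n) F k (Ψ x)) = h x
          simp [k]
        have hkK : k ∈ Cfsg.Geo.tensorProductSubgroup n₁ n₂ e P := (mem_iff e P k).2 (by
          show InN (conj (glEquiv (Fin n) F k))
          rwa [hkc])
        have hkS : k ∈ Cfsg.Geo.specialLinear (Fin n) F := by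
          rw [mem_specialLinear_iff, MulEquiv.apply_symm_apply, ← hdet,
            ← LinearMap.det_conj h.toLinearMap Ψ]
          rfl
        exact ⟨_, ⟨k, hM ⟨hkK, hkS⟩, rfl⟩, hkc⟩ }
  have hg' : conj (glEquiv (Fin n) F g) ∈ X₀ := ⟨_, ⟨g, hgM, rfl⟩, rfl⟩
  have hχv : (φ ∘ₗ Ψ.toLinearMap) (Ψ.symm v) = 0 := by simpa using hv
  obtain ⟨_, ⟨k, hkM, rfl⟩, hk⟩ := all_tvec hX hg' (fun hN => hgK ((mem_iff e P g).2 hN)) _ _ hχv
  have hkk : k = (glEquiv (Fin n) F).symm (tvec φ v) := by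
    refine (MulEquiv.eq_symm_apply _).2 (LinearEquiv.ext fun x => ?_)
    have := congrArg Ψ (LinearEquiv.congr_fun hk (Ψ.symm x))
    rw [tvec_apply hχv] at this
    rw [tvec_apply hv]
    simpa [conj] using this
  exact hkk ▸ hkM

end

section
open Module Cfsg.Agent.ClassicalMax Cfsg.Agent.ClassicalMax.Subfield
open Cfsg.Agent.S5639

theorem subfield {F : Type*} [Field F] [Fintype F] (n : ℕ) (hn : 3 ≤ n) (F₀ : Subfield F) (r : ℕ) (hr : r.Prime) (hcard : Fintype.card F = Nat.card F₀ ^ r) (P : Matrix.GeneralLinearGroup (Fin n) F) : Cfsg.Geo.IsMaximalIn (Cfsg.Geo.specialLinear (Fin n) F) (Cfsg.Geo.subfieldSubgroup F₀ P ⊓ Cfsg.Geo.specialLinear (Fin n) F) := by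
  obtain ⟨h1, h2⟩ := main (ι := Fin n) F₀ (by rw [Fintype.card_fin]; omega) r hr hcard
  set c := (MulAut.conj P).toMonoidHom with hc
  have hinj : Function.Injective c := (MulAut.conj P).injective
  have hS : (Cfsg.Geo.specialLinear (Fin n) F).map c = Cfsg.Geo.specialLinear (Fin n) F := by
    haveI : (Cfsg.Geo.specialLinear (Fin n) F).Normal := MonoidHom.normal_ker _
    exact Subgroup.Normal.map_conj_eq _ P
  have hK : Cfsg.Geo.subfieldSubgroup F₀ P ⊓ Cfsg.Geo.specialLinear (Fin n) F =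
      (H₀ F₀ ⊓ Cfsg.Geo.specialLinear (Fin n) F).map c := by
    rw [Subgroup.map_inf _ _ _ hinj, hS]
    rfl
  rw [hK]
  refine ⟨by conv_rhs => rw [← hS]
             exact (Subgroup.map_lt_map_iff_of_injective hinj).2 h1, fun M hM1 hM2 => ?_⟩
  have hsurj : Function.Surjective c := (MulAut.conj P).surjective
  rcases h2 (M.comap c) (Subgroup.map_le_iff_le_comap.1 hM1)
      ((Subgroup.comap_mono (hM2.trans hS.ge)).trans (le_of_eq (Subgroup.comap_map_eq_self_of_injective hinj _))) with h | h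
  · exact Or.inl (by rw [← h, Subgroup.map_comap_eq_self_of_surjective hsurj])
  · refine Or.inr ?_
    rw [← Subgroup.map_comap_eq_self_of_surjective hsurj M, h, hS]

end

section
open Cfsg.Agent.Classical Cfsg.Agent.ClassicalMax Module
open Cfsg.Agent.S5642

theorem symplectic {F : Type*} [Field F] [Fintype F] (n : ℕ) (hn : 3 ≤ n) (f : (Fin n → F) → (Fin n → F) → F) (hf : Cfsg.Geo.IsSymplecticForm f) : Cfsg.Geo.IsMaximalIn (Cfsg.Geo.specialLinear (Fin n) F) (Cfsg.Geo.similarityGroup f ⊓ Cfsg.Geo.specialLinear (Fin n) F) := by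
  classical
  let B : LinearMap.BilinForm F (Fin n → F) :=
    LinearMap.mk₂ F f hf.bilinear.add_left hf.bilinear.smul_left hf.bilinear.add_right hf.bilinear.smul_right
  have hBf : ∀ x y, B x y = f x y := fun x y => rfl
  have hA : B.IsAlt := hf.alternating
  have hB : B.Nondegenerate :=
    ⟨fun x hx => by_contra fun h => (hf.nondegenerate x h).2.elim fun y hy => hy (hx y),
      fun x hx => by_contra fun h => (hf.nondegenerate x h).1.elim fun y hy => hy (hx y)⟩
  refine isMaximalIn_specialLinear _ ?_ fun M hK hg => ?_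
  · obtain ⟨u, hu⟩ : ∃ u : Fin n → F, u ≠ 0 := ⟨fun _ => 1, fun h => one_ne_zero (congrFun h ⟨0, by omega⟩)⟩
    obtain ⟨u', hu'⟩ : ∃ u' : Fin n → F, B u u' = 1 := by
      obtain ⟨y, hy⟩ := (hf.nondegenerate u hu).2
      exact ⟨(f u y)⁻¹ • y, by rw [map_smul, hBf, smul_eq_mul, inv_mul_cancel₀ hy]⟩
    let K := LinearMap.ker (B u) ⊓ LinearMap.ker (B u')
    obtain ⟨z, hz, hz0⟩ : ∃ z ∈ K, z ≠ 0 := by
      refine Submodule.exists_mem_ne_zero_of_ne_bot fun h => ?_
      have h1 := (B u).finrank_range_add_finrank_ker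
      have h2 := Submodule.finrank_sup_add_finrank_inf_eq (LinearMap.ker (B u)) (LinearMap.ker (B u'))
      have h4 := (B u').finrank_range_add_finrank_ker
      have h3 := Submodule.finrank_le (LinearMap.ker (B u) ⊔ LinearMap.ker (B u'))
      have h5 := (Submodule.finrank_le (LinearMap.range (B u))).trans_eq (Module.finrank_self F)
      have h6 := (Submodule.finrank_le (LinearMap.range (B u'))).trans_eq (Module.finrank_self F)
      rw [show LinearMap.ker (B u) ⊓ LinearMap.ker (B u') = ⊥ from h, finrank_bot] at h2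
      rw [Module.finrank_fin_fun] at h1 h4 h3
      omega
    have hz1 : B u z = 0 := hz.1
    have hz2 : B u' z = 0 := hz.2
    have h0 : B.flip z u = 0 := hz1
    refine ⟨B.flip z, u, h0, fun hmem => ?_⟩
    obtain ⟨c, hc⟩ := hmem
    have hc' : ∀ x y, B (x + B x z • u) (y + B y z • u) = (c : F) * B x y := fun x y => by
      have := hc x y
      rw [symm_mulVec, symm_mulVec, tvec_apply h0, tvec_apply h0] at this
      exact this
    have e1 := hc' u u'
    rw [hz1, hz2] at e1
    simp [hu'] at e1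
    obtain ⟨x, hx⟩ := (hf.nondegenerate z hz0).1
    have e2 := hc' x u'
    rw [hz2, ← e1] at e2
    simp [hu', hBf] at e2
    exact hx e2
  · have hiso : ∀ g ∈ Alt.isoGroup B, g ∈ M := fun g hg => by
      have := hK ((glEquiv (Fin n) F).symm g) ⟨⟨1, fun x y => by
          rw [symm_mulVec, symm_mulVec, Units.val_one, one_mul]; exact hg x y⟩,
        (mem_specialLinear_iff _).2 (by rw [MulEquiv.apply_symm_apply]; exact det_iso hA hB g hg)⟩
      rwa [MulEquiv.apply_symm_apply] at this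
    obtain ⟨g, hgK, hgM⟩ := hg
    refine all_transvections hA hB M hiso _ hgM fun ⟨c, hc⟩ => hgK ?_
    have hc0 : c ≠ 0 := fun h => by
      obtain ⟨u, hu⟩ : ∃ u : Fin n → F, u ≠ 0 := ⟨fun _ => 1, fun h => one_ne_zero (congrFun h ⟨0, by omega⟩)⟩
      obtain ⟨y, hy⟩ := (hf.nondegenerate (glEquiv (Fin n) F g u) (fun he => hu ((glEquiv (Fin n) F g).injective (he.trans (map_zero _).symm)))).2
      obtain ⟨y', rfl⟩ := (glEquiv (Fin n) F g).surjective y
      exact hy (by rw [← hBf, hc, h, zero_mul])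
    exact ⟨Units.mk0 c hc0, fun x y => hc x y⟩

end

end Cfsg.Agent.ClassicalMax.SmallLinear
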